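import Cfsg.Agent.H3.Dom

/-!
# Blocks of groups `G = P C_G(P)`, and characters of relative defect zero over the centre
-/

set_option autoImplicit false
set_option linter.unusedSectionVars false

namespace Cfsg.Agent.H3

open Cfsg MonoidAlgebra Cfsg.Agent.H5 Cfsg.Agent.H4
open scoped ComplexConjugate

variable {M : Ideal AlgInt} [hMm : M.IsMaximal] {G H : Type*} [Group G] [Finite G] [Group H]
  [Finite H] {p : ℕ} [hp : Fact p.Prime] [CharP (Res M) p]

omit hMm in
theorem sum_eq_ite_of_normal {χ : G → ℂ} (hχ : IsIrrCharacter G χ) (N : Subgroup G) [N.Normal]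
    [Fintype N] [Decidable (∀ n ∈ N, χ n = χ 1)] (y : G) :
    ∑ n : N, χ (n * y) = if ∀ n ∈ N, χ n = χ 1 then Nat.card N * χ y else 0 := by
  classical
  have := Fintype.ofFinite G
  split_ifs with h
  · rw [Finset.sum_congr rfl (g := fun _ => χ y) fun n _ => by
      rw [hχ.isClassFunction.apply_mul_comm, hχ.isCharacter.apply_mul_of_eq_apply_one (h n n.2)]]
    simp
  · have h1 := hχ.sum_mul_apply_mul (f := extendByZero N 1) (fun g x => by
      by_cases hg : g ∈ N
      · rw [ebz_of_mem _ _ hg, ebz_of_mem _ _ (Subgroup.Normal.conj_mem inferInstance g hg x)]; rfl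
      · rw [ebz_of_not_mem _ _ hg, ebz_of_not_mem _ _ fun h => hg (by
          simpa [mul_assoc] using Subgroup.Normal.conj_mem inferInstance _ h x⁻¹)]) y
    rw [sum_ebz_mul N 1 fun g => χ (g * y), omega, sum_ebz_mul] at h1
    have h2 := (over_one_iff N hχ).not.mpr h
    simp only [Over, classInner, irrOne_apply, map_one, mul_one, ne_eq, not_not, mul_eq_zero,
      inv_eq_zero, natCard_ne_zero, false_or] at h2
    simpa [h2] using h1

theorem sum_mul_conj_eq_card_mul (f : G →* H) (hf : Function.Surjective f)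
    (hk : IsPGroup p f.ker) {A : Set (IrrCharacter G)} (hA : IsUnion M A) [DecidablePred (· ∈ A)]
    [DecidablePred (· ∈ inflIrr f hf ⁻¹' A)] {y y' : G} (hy : ¬p ∣ orderOf y)
    (hy' : ¬p ∣ orderOf y') (hc : f.ker ≤ cz y) :
    ∑ χ with χ ∈ A, (χ : G → ℂ) y * conj ((χ : G → ℂ) y') = Nat.card f.ker *
      ∑ ψ with ψ ∈ inflIrr f hf ⁻¹' A, (ψ : H → ℂ) (f y) * conj ((ψ : H → ℂ) (f y')) := by
  classical
  have := Fintype.ofFinite f.ker
  have h1 : ∑ n : f.ker, ∑ χ with χ ∈ A, (χ : G → ℂ) (n * y) * conj ((χ : G → ℂ) y') =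
      ∑ χ with χ ∈ A, (χ : G → ℂ) y * conj ((χ : G → ℂ) y') := by
    rw [Finset.sum_eq_single 1 (fun n _ hn => hA.weak_orthogonal' hy' (by
      rw [mem_cz.mp (hc n.2)]
      exact dvd_orderOf_mul hk hy hc n.2 fun h => hn (Subtype.ext h))) (by simp)]
    simp
  have h3 := sum_filter_inflIrr f hf
    {χ | χ ∈ A ∧ ∀ n ∈ f.ker, (χ : G → ℂ) n = (χ : G → ℂ) 1} (inflIrr f hf ⁻¹' A)
    (fun χ => ⟨fun ⟨hχ, h⟩ => by
        obtain ⟨ψ, rfl⟩ := exists_inflIrr_eq f hf h
        exact ⟨ψ, hχ, rfl⟩,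
      fun ⟨ψ, hψ, e⟩ => ⟨e ▸ hψ, (mem_range_inflIrr f hf).mp ⟨ψ, e⟩⟩⟩)
    (fun χ => (χ : G → ℂ) y * conj ((χ : G → ℂ) y'))
  simp only [inflIrr_apply] at h3
  rw [← h3, ← h1, Finset.sum_comm, Finset.mul_sum, Finset.sum_filter, Finset.sum_filter]
  refine Finset.sum_congr rfl fun χ _ => ?_
  rw [← Finset.sum_mul, sum_eq_ite_of_normal χ.2]
  simp only [Set.mem_setOf_eq]
  by_cases h1 : χ ∈ A <;> by_cases h2 : ∀ n ∈ f.ker, (χ : G → ℂ) n = (χ : G → ℂ) 1 <;>
    simp [h1, h2, mul_assoc]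

theorem exists_over_of_pGroup {A : Set (IrrCharacter G)} (hA : IsUnion M A) (hne : A.Nonempty)
    {Q : Subgroup G} [Fintype Q] (hQ : IsPGroup p Q) (ξ : IrrCharacter Q) :
    ∃ χ ∈ A, classInner (fun x : Q => (χ : G → ℂ) x) ξ ≠ 0 := by
  classical
  by_contra hcon
  push Not at hcon
  have h1 : ∑ χ with χ ∈ A, classInner (fun x : Q => (χ : G → ℂ) x) ξ * conj ((χ : G → ℂ) 1) = 0 :=
    Finset.sum_eq_zero fun χ hχ => by rw [hcon χ (Finset.mem_filter.mp hχ).2, zero_mul]
  simp only [classInner, mul_assoc, ← Finset.mul_sum, Finset.sum_mul, mul_eq_zero, inv_eq_zero,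
    natCard_ne_zero, false_or] at h1
  rw [Finset.sum_comm, Finset.sum_eq_single 1 (fun u _ hu => by
    simp only [mul_left_comm _ (conj ((ξ : Q → ℂ) u)), ← Finset.mul_sum]
    rw [hA.weak_orthogonal' not_dvd_orderOf_one (p := p) (by
      by_contra h
      exact hu (Subtype.ext (eq_one_of_pElt_of_pReg (isPElt_of_mem hQ u.2) h))), mul_zero])
    (by simp)] at h1
  simp only [mul_left_comm _ (conj ((ξ : Q → ℂ) 1)), ← Finset.mul_sum, OneMemClass.coe_one,
    mul_eq_zero, map_eq_zero, ξ.2.apply_one_ne_zero, false_or] at h1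
  exact sum_apply_one_sq_ne_zero hne h1

omit hMm in
theorem apply_mul_of_sup_centralizer {P : Subgroup G}
    (hG : P ⊔ Subgroup.centralizer (P : Set G) = ⊤) {χ : G → ℂ} (hχ : IsIrrCharacter G χ) {u y : G}
    (hu : u ∈ P) (hy : y ∈ Subgroup.centralizer (P : Set G)) :
    χ (y * u) = χ y * χ u / χ 1 := by
  have := Fintype.ofFinite G
  have hC : (Subgroup.centralizer (P : Set G)).Normal := by
    rw [← Subgroup.normalizer_eq_top_iff, eq_top_iff, ← hG]
    exact sup_le (Subgroup.le_normalizer.trans (H1.normalizer_le_normalizer_centralizer P))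
      Subgroup.le_normalizer
  have h1 := hχ.sum_apply_mul_conj y u
  rw [Finset.sum_congr rfl (g := fun _ => χ (y * u)) fun x _ => by
    obtain ⟨v, hv, c, hc, rfl⟩ := Subgroup.mem_sup_of_normal_right.mp (hG.ge (Subgroup.mem_top x))
    rw [← hχ.isClassFunction (y * u) v]
    congr 1
    calc _ = y * v * (c * u) * c⁻¹ * v⁻¹ := by group
      _ = _ := by rw [← hc u hu, ← hy v hv]; group] at h1
  rw [Finset.sum_const, Finset.card_univ, nsmul_eq_mul, ← Nat.card_eq_fintype_card, mul_assoc,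
    mul_div_assoc] at h1
  exact mul_left_cancel₀ natCard_ne_zero h1

omit hMm [Finite G] in
theorem normal_of_sup_centralizer {P : Subgroup G}
    (hG : P ⊔ Subgroup.centralizer (P : Set G) = ⊤) : P.Normal := by
  rw [← Subgroup.normalizer_eq_top_iff, eq_top_iff, ← hG]
  exact sup_le Subgroup.le_normalizer (H1.centralizer_le_normalizer' P)

omit hMm [CharP (Res M) p] in
theorem le_cz_of_sup_centralizer {P : Subgroup G} (hP : IsPGroup p P)
    (hG : P ⊔ Subgroup.centralizer (P : Set G) = ⊤) (x : G) (hx : ¬p ∣ orderOf x) : P ≤ cz x := by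
  have := normal_of_sup_centralizer hG
  obtain ⟨k, hk⟩ := IsPGroup.iff_card.mp hP
  have h1 : (Subgroup.centralizer (P : Set G)).index ∣ p ^ k := by
    rw [← Subgroup.relIndex_top_right, ← hG, Subgroup.relIndex_sup_right, ← hk]
    exact Subgroup.relIndex_dvd_card _ _
  obtain ⟨j, -, hj⟩ := (Nat.dvd_prime_pow hp.out).mp h1
  exact le_cz_of_index_centralizer P hj x hx

theorem nu_eq_of_inflIrr_mem (f : G →* H) (hf : Function.Surjective f)
    {B : Set (IrrCharacter G)} (hB : IsPBlock M B) (hD : IsDefectGroup p M B f.ker)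
    {θ : IrrCharacter H} (hθ : inflIrr f hf θ ∈ B) :
    nu p (θ : H → ℂ) = (Nat.card H).factorization p := by
  refine le_antisymm (nu_le M θ) ?_
  have h1 := minNu_le (p := p) hθ
  rw [← factorization_index_defectGroup hB hD, Subgroup.index_ker, f.range_eq_top_of_surjective hf,
    Subgroup.card_top] at h1
  simpa [nu, charDegree] using h1

theorem preimage_eq_singleton (f : G →* H) (hf : Function.Surjective f)
    (hc : ∀ x : G, ¬p ∣ orderOf x → f.ker ≤ cz x)
    {B : Set (IrrCharacter G)} (hB : IsPBlock M B) (hD : IsDefectGroup p M B f.ker) :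
    ∃ θ, inflIrr f hf ⁻¹' B = {θ} := by
  have hk := IsDefectGroup.isPGroup hD
  obtain ⟨θ, hθ⟩ := exists_inflIrr_mem f hf hk hB
  exact ⟨θ, (IsPBlock.eq_blockOf (isPBlock_preimage_inflIrr f hf hk hc hB) hθ).trans
    (blockOf_eq_singleton_of_nu_eq (nu_eq_of_inflIrr_mem f hf hB hD hθ))⟩

omit hMm in
theorem apply_mul_eq_of_rank_one {A : Set (IrrCharacter G)} [DecidablePred (· ∈ A)] {θ : G → ℂ}
    {c : ℂ} {y : G} (h : ∀ x ∈ ({y, 1} : Set G), ∀ x' ∈ ({y, 1} : Set G),
      ∑ χ with χ ∈ A, (χ : G → ℂ) x * conj ((χ : G → ℂ) x') = c * (θ x * conj (θ x')))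
    {χ : IrrCharacter G} (hχ : χ ∈ A) : (χ : G → ℂ) y * θ 1 = (χ : G → ℂ) 1 * θ y := by
  have h1 := eq_zero_of_gram (Finset.univ.filter (· ∈ A)) Finset.univ (Finset.univ : Finset Unit)
    (fun (χ : IrrCharacter G) (b : Bool) => (χ : G → ℂ) (if b then y else 1))
    (fun _ b => θ (if b then y else 1)) c
    (fun b _ b' _ => by
      rw [h _ (by cases b <;> simp) _ (by cases b' <;> simp)]; simp)
    (fun b => if b then θ 1 else -θ y) (fun _ _ => by simp [mul_comm]) χ (by simpa using hχ)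
  simpa [← sub_eq_add_neg, sub_eq_zero] using h1

omit hMm in
theorem eq_of_apply_mul_eq {χ ψ : G → ℂ} (hχ : IsIrrCharacter G χ) (hψ : IsIrrCharacter G ψ)
    (h : ∀ g, χ g * ψ 1 = χ 1 * ψ g) : χ = ψ := by
  have := Fintype.ofFinite G
  refine hχ.eq_of_classInner_ne_zero hψ ?_
  rw [show χ = (χ 1 / ψ 1) • ψ from funext fun g => by
    rw [Pi.smul_apply, smul_eq_mul, div_mul_eq_mul_div, ← h, mul_div_cancel_right₀ _
      hψ.apply_one_ne_zero], classInner_smul_left, hψ.classInner_self, mul_one]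
  exact div_ne_zero hχ.apply_one_ne_zero hψ.apply_one_ne_zero

theorem card_block_of_sup_centralizer {P : Subgroup G}
    (hG : P ⊔ Subgroup.centralizer (P : Set G) = ⊤) {B : Set (IrrCharacter G)} (hB : IsPBlock M B)
    (hD : IsDefectGroup p M B P) : Nat.card B = Nat.card (IrrCharacter P) := by
  classical
  have := Fintype.ofFinite G
  have := Fintype.ofFinite P
  have := normal_of_sup_centralizer hG
  have hP := IsDefectGroup.isPGroup hD
  have hc := le_cz_of_sup_centralizer hP hG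
  have hf := QuotientGroup.mk'_surjective P
  have hk := QuotientGroup.ker_mk' P
  obtain ⟨θ, hθ⟩ := preimage_eq_singleton _ hf (by rwa [hk]) hB (by rwa [hk])
  have h1 : ∀ χ ∈ B, ∀ y, ¬p ∣ orderOf y → (χ : G → ℂ) y * (inflIrr _ hf θ : G → ℂ) 1 =
      (χ : G → ℂ) 1 * (inflIrr _ hf θ : G → ℂ) y := fun χ hχ y hy =>
    apply_mul_eq_of_rank_one (c := Nat.card (QuotientGroup.mk' P).ker) (fun x hx x' hx' => by
      have hx1 : ¬p ∣ orderOf x := by rcases hx with rfl | rfl; exacts [hy, not_dvd_orderOf_one]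
      have hx2 : ¬p ∣ orderOf x' := by rcases hx' with rfl | rfl; exacts [hy, not_dvd_orderOf_one]
      rw [sum_mul_conj_eq_card_mul _ hf (by rwa [hk]) (IsPBlock.isUnion hB) hx1 hx2
        (by rw [hk]; exact hc x hx1)]
      simp [hθ, Finset.filter_eq']) hχ
  have hinv : ∀ (ξ : IrrCharacter P) (g : G), conjFun P ξ g = ξ := by
    intro ξ g
    have hC : (Subgroup.centralizer (P : Set G)).Normal := inferInstance
    obtain ⟨v, hv, c, hc, rfl⟩ := Subgroup.mem_sup_of_normal_right.mp (hG.ge (Subgroup.mem_top g))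
    funext n
    rw [conjFun, ← ξ.2.isClassFunction n ⟨v, hv⟩]
    refine congrArg _ (Subtype.ext ?_)
    calc v * c * n * (v * c)⁻¹ = v * (c * n) * c⁻¹ * v⁻¹ := by group
      _ = v * n * v⁻¹ := by rw [← hc n n.2]; group
  choose u hu using fun χ : B => exists_under P χ.1
  have h2 : ∀ (χ : B) (ξ : IrrCharacter P), Over P χ.1 ξ → ∀ x : P,
      (χ.1 : G → ℂ) x * (ξ : P → ℂ) 1 = (χ.1 : G → ℂ) 1 * (ξ : P → ℂ) x := by
    intro χ ξ h x
    have h3 := clifford_res_of_invariant P χ.1.2 ξ.2 h (hinv ξ)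
    have h4 := congrFun h3 x
    have h5 := congrFun h3 1
    simp only [Pi.smul_apply, smul_eq_mul, OneMemClass.coe_one] at h4 h5
    rw [h4, h5]; ring
  refine Nat.card_congr (Equiv.ofBijective u ⟨fun χ ψ e => ?_, fun ξ => ?_⟩)
  · refine Subtype.ext (Subtype.ext (eq_of_apply_mul_eq χ.1.2 ψ.1.2 fun g => ?_))
    by_cases hg : pPart p g ∈ P
    · have k1 := h2 χ _ (hu χ) ⟨_, hg⟩
      have k2 := h2 ψ _ (hu ψ) ⟨_, hg⟩
      have k3 := h1 χ χ.2 _ (pReg_pReg g)
      have k4 := h1 ψ ψ.2 _ (pReg_pReg g)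
      have hy := le_cz_iff.mp (hc _ (pReg_pReg g))
      rw [e] at k1
      rw [← pReg_mul_pPart (p := p) g, apply_mul_of_sup_centralizer hG χ.1.2 hg hy,
        apply_mul_of_sup_centralizer hG ψ.1.2 hg hy]
      have n1 := χ.1.2.apply_one_ne_zero
      have n2 := ψ.1.2.apply_one_ne_zero
      have n3 := (u ψ).2.apply_one_ne_zero
      have n4 := (inflIrr _ hf θ).2.apply_one_ne_zero
      rw [eq_div_of_mul_eq n3 k1, eq_div_of_mul_eq n3 k2, eq_div_of_mul_eq n4 k3,
        eq_div_of_mul_eq n4 k4]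
      field_simp
    · rw [of_not_not (mt (IsDefectGroup.pPart_mem_of_ne_zero hB hD χ.2) hg),
        of_not_not (mt (IsDefectGroup.pPart_mem_of_ne_zero hB hD ψ.2) hg), zero_mul, mul_zero]
  · obtain ⟨χ, hχ, h⟩ := exists_over_of_pGroup (IsPBlock.isUnion hB) (IsPBlock.nonempty hB) hP ξ
    obtain ⟨g, hg⟩ := Over.exists_cjIrr χ.2 h (hu ⟨χ, hχ⟩)
    exact ⟨⟨χ, hχ⟩, hg.symm.trans (Subtype.ext (hinv ξ g))⟩

omit hMm in
theorem exists_centralHom {χ : G → ℂ} (hχ : IsIrrCharacter G χ) {D : Subgroup G}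
    (hD : D ≤ Subgroup.center G) : ∃ μ : D →* ℂˣ, ∀ (z : D) (g : G), χ (z * g) = μ z * χ g := by
  choose ω _ hω using fun z : D => apply_mul_of_mem_center hχ (hD z.2)
  refine ⟨MonoidHom.toHomUnits ⟨⟨ω, ?_⟩, fun a b => ?_⟩, hω⟩
  · have := hω 1 1
    rw [OneMemClass.coe_one, one_mul] at this
    exact (mul_eq_right₀ hχ.apply_one_ne_zero).mp this.symm
  · have := hω (a * b) 1
    rw [Subgroup.coe_mul, mul_assoc, hω, hω, ← mul_assoc] at this
    exact (mul_right_cancel₀ hχ.apply_one_ne_zero this).symm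

omit hMm in
theorem unitsHom_mul_conj {D : Type*} [Group D] [Finite D] (μ : D →* ℂˣ) (z : D) :
    (μ z : ℂ) * conj (μ z : ℂ) = 1 := by
  rw [← (isIrrCharacter_unitsHom μ).apply_inv z, ← Units.val_mul, ← map_mul, mul_inv_cancel,
    map_one, Units.val_one]

theorem eq_of_sameBlock_of_faithful {D : Subgroup G} (hDZ : D ≤ Subgroup.center G)
    {χ ψ : IrrCharacter G} (h : SameBlock M (χ : G → ℂ) ψ) {μ : D →* ℂˣ}
    (hμ : Function.Injective μ) (hχ : ∀ (z : D) (g : G), (χ : G → ℂ) (z * g) = μ z * (χ : G → ℂ) g)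
    (hψ : ∀ (z : D) (g : G), (ψ : G → ℂ) (z * g) = μ z * (ψ : G → ℂ) g)
    (hdeg : nu p (χ : G → ℂ) = D.index.factorization p) : χ = ψ := by
  classical
  by_contra hne
  have := Fintype.ofFinite G
  have : D.Normal := ⟨fun x hx g => by
    rwa [Subgroup.mem_center_iff.mp (hDZ hx) g, mul_inv_cancel_right]⟩
  have := Fintype.ofFinite (G ⧸ D)
  have := Fintype.ofFinite (ConjClasses (G ⧸ D))
  let F : G → ℂ := fun g => ((χ : G → ℂ) g / (χ : G → ℂ) 1 - (ψ : G → ℂ) g / (ψ : G → ℂ) 1) *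
    conj ((χ : G → ℂ) g)
  have hF : ∀ g, F (QuotientGroup.mk g : G ⧸ D).out = F g := fun g => by
    obtain ⟨z, hz⟩ := QuotientGroup.mk_out_eq_mul D g
    simp only [F, hz, Subgroup.mem_center_iff.mp (hDZ z.2) g, hχ, hψ, map_mul]
    linear_combination ((χ : G → ℂ) g / (χ : G → ℂ) 1 - (ψ : G → ℂ) g / (ψ : G → ℂ) 1) *
      conj ((χ : G → ℂ) g) * unitsHom_mul_conj μ z
  have h1 := classInner_comp_of_surjective (QuotientGroup.mk' D) (QuotientGroup.mk'_surjective D)
    (fun q => F q.out) 1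
  have h2 : classInner (fun g => F (QuotientGroup.mk' D g).out)
      (fun g => (1 : G ⧸ D → ℂ) (QuotientGroup.mk' D g)) = ((χ : G → ℂ) 1)⁻¹ := by
    have h3 := classInner_sub_left (((χ : G → ℂ) 1)⁻¹ • (χ : G → ℂ))
      (((ψ : G → ℂ) 1)⁻¹ • (ψ : G → ℂ)) χ
    rw [classInner_smul_left, classInner_smul_left, classInner_irr, classInner_irr, if_pos rfl,
      if_neg (Ne.symm hne), mul_zero, sub_zero, mul_one] at h3
    rw [← h3]
    simp only [QuotientGroup.mk'_apply, hF]
    simp only [classInner, F, Pi.one_apply, map_one, mul_one,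
      Pi.sub_apply, Pi.smul_apply, smul_eq_mul, div_eq_inv_mul]
  rw [h2, classInner, eq_inv_mul_iff_mul_eq₀ natCard_ne_zero] at h1
  simp only [Pi.one_apply, map_one, mul_one] at h1
  rw [sum_eq_sum_conjClasses (f := fun q : G ⧸ D => F q.out) (fun a b => by
    obtain ⟨a, rfl⟩ := QuotientGroup.mk_surjective a
    obtain ⟨b, rfl⟩ := QuotientGroup.mk_surjective b
    simp only [← QuotientGroup.mk_inv, ← QuotientGroup.mk_mul, hF, F, χ.2.isClassFunction a b,
      ψ.2.isClassFunction a b]), ← Subgroup.index_eq_card, ← χ.2.cast_charDegree,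
    ← div_eq_mul_inv] at h1
  have h4 : MemLocalIdeal M ((D.index : ℂ) / charDegree (χ : G → ℂ)) := by
    rw [h1]
    refine MemLocalIdeal.sum _ fun C _ => ?_
    generalize (Quotient.out C : G ⧸ D) = q
    obtain ⟨x, rfl⟩ := QuotientGroup.mk_surjective q
    rw [hF]
    by_cases hx : (χ : G → ℂ) x = 0
    · simpa [F, hx] using memLocalIdeal_zero
    have h5 : (cz (QuotientGroup.mk' D x)).comap (QuotientGroup.mk' D) = cz x := by
      refine le_antisymm (fun c hc => ?_) fun c hc => mem_cz.mpr (by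
        rw [← map_mul, ← map_mul, mem_cz.mp hc])
      have h6 : c * x * c⁻¹ * x⁻¹ ∈ D := by
        rw [← QuotientGroup.ker_mk' D, MonoidHom.mem_ker, map_mul, map_mul, map_mul,
          mem_cz.mp hc, map_inv, map_inv]
        group
      have h7 := hχ ⟨_, h6⟩ x
      rw [inv_mul_cancel_right, χ.2.isClassFunction, eq_comm, mul_eq_right₀ hx, Units.val_eq_one,
        ← map_one μ] at h7
      have h8 := congrArg Subtype.val (hμ h7)
      rwa [OneMemClass.coe_one, mul_inv_eq_one, mul_inv_eq_iff_eq_mul, ← mem_cz] at h8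
    have h6 := MemLocalIdeal.mul_right (h x) (conj_irr_mem χ x)
    convert h6 using 1
    change ((cz (QuotientGroup.mk' D x)).index : ℂ) * _ = _
    rw [← Subgroup.index_comap_of_surjective _ (QuotientGroup.mk'_surjective D), h5]
    simp only [F, centralChar]
    ring
  rw [memLocalIdeal_natCast_div_iff (p := p) Subgroup.index_ne_zero_of_finite
    (charDegree_ne_zero χ)] at h4
  exact h4.ne hdeg

theorem eq_of_sameBlock_of_central {D : Subgroup G} (hD : IsPGroup p D)
    (hDZ : D ≤ Subgroup.center G) {χ ψ : IrrCharacter G} (h : SameBlock M (χ : G → ℂ) ψ)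
    {μ : D →* ℂˣ} (hχ : ∀ (z : D) (g : G), (χ : G → ℂ) (z * g) = μ z * (χ : G → ℂ) g)
    (hψ : ∀ (z : D) (g : G), (ψ : G → ℂ) (z * g) = μ z * (ψ : G → ℂ) g)
    (hdeg : nu p (χ : G → ℂ) = D.index.factorization p) : χ = ψ := by
  have hKD : μ.ker.map D.subtype ≤ D := Subgroup.map_subtype_le _
  have : (μ.ker.map D.subtype).Normal := ⟨fun x hx g => by
    rwa [Subgroup.mem_center_iff.mp (hDZ (hKD hx)) g, mul_inv_cancel_right]⟩
  have hf := QuotientGroup.mk'_surjective (μ.ker.map D.subtype)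
  have hk := QuotientGroup.ker_mk' (μ.ker.map D.subtype)
  generalize QuotientGroup.mk' (μ.ker.map D.subtype) = f at hf hk
  have key : ∀ φ : IrrCharacter G, (∀ (z : D) (g : G), (φ : G → ℂ) (z * g) = μ z * (φ : G → ℂ) g) →
      ∃ φ', inflIrr f hf φ' = φ := fun φ hφ => exists_inflIrr_eq f hf fun n hn => by
    rw [hk] at hn
    obtain ⟨z, hz, rfl⟩ := hn
    simpa [MonoidHom.mem_ker.mp hz] using hφ z 1
  obtain ⟨χ, rfl⟩ := key χ hχ
  obtain ⟨ψ, rfl⟩ := key ψ hψ
  have hDZ' : D.map f ≤ Subgroup.center _ := by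
    rintro _ ⟨z, hz, rfl⟩
    rw [Subgroup.mem_center_iff]
    intro g
    obtain ⟨g, rfl⟩ := hf g
    rw [← map_mul, ← map_mul, Subgroup.mem_center_iff.mp (hDZ hz)]
  obtain ⟨ν, hν⟩ := exists_centralHom χ.2 hDZ'
  have hνμ : ∀ z : D, ν ⟨f z, z, z.2, rfl⟩ = μ z := fun z => by
    have h1 := hχ z 1
    rw [inflIrr_apply, inflIrr_apply, map_mul, hν ⟨f z, z, z.2, rfl⟩, map_one] at h1
    exact Units.ext (mul_right_cancel₀ χ.2.apply_one_ne_zero h1)
  congr 1
  refine eq_of_sameBlock_of_faithful (p := p) hDZ' (sameBlock_of_inflIrr_of_pGroup f hf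
    (hD.to_le (hk.le.trans hKD)) (fun x _ z hz => mem_cz.mpr
      (Subgroup.mem_center_iff.mp (hDZ (hKD (hk.le hz))) x).symm) h) (μ := ν) ?_ hν ?_ ?_
  · rw [injective_iff_map_eq_one]
    rintro ⟨_, z, hz, rfl⟩ h1
    exact Subtype.ext (hk.ge ⟨⟨z, hz⟩, (hνμ ⟨z, hz⟩).symm.trans h1, rfl⟩)
  · rintro ⟨_, z, hz, rfl⟩ g
    obtain ⟨g, rfl⟩ := hf g
    rw [hνμ ⟨z, hz⟩, ← map_mul]
    exact hψ ⟨z, hz⟩ g
  · rw [Subgroup.index_map_eq _ hf (hk.le.trans hKD), ← hdeg]
    simp [nu, charDegree]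

theorem apply_eq_zero_of_central {D : Subgroup G} (hD : IsPGroup p D)
    (hDZ : D ≤ Subgroup.center G) {χ : IrrCharacter G}
    (hdeg : nu p (χ : G → ℂ) = D.index.factorization p) (M : Ideal AlgInt) [M.IsMaximal]
    [CharP (Res M) p] {g : G} (hg : pPart p g ∉ D) : (χ : G → ℂ) g = 0 := by
  classical
  have := Fintype.ofFinite D
  choose μ hμ using fun ψ : IrrCharacter G => exists_centralHom ψ.2 hDZ
  have h1 : ∑ z : D, ∑ ψ with ψ ∈ blockOf M (χ : G → ℂ),
      (ψ : G → ℂ) (z * g) * conj ((ψ : G → ℂ) 1) * conj (μ χ z : ℂ) = 0 := by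
    refine Finset.sum_eq_zero fun z _ => ?_
    rw [← Finset.sum_mul, (IsPBlock.isUnion (isPBlock_blockOf χ)).weak_orthogonal'
      not_dvd_orderOf_one (p := p) (by
        by_contra h
        have h2 := pPart_of_pReg h
        rw [pPart_mul (Subgroup.mem_center_iff.mp (hDZ z.2) g).symm,
          pPart_of_pElt (isPElt_of_mem hD z.2), mul_eq_one_iff_inv_eq] at h2
        exact hg (h2 ▸ inv_mem z.2)), zero_mul]
  rw [Finset.sum_comm, Finset.sum_eq_single χ (fun ψ hψ hne => by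
    have h2 := (isIrrCharacter_unitsHom (μ ψ)).classInner_of_ne (isIrrCharacter_unitsHom (μ χ))
      fun e => hne (eq_of_sameBlock_of_central hD hDZ (Finset.mem_filter.mp hψ).2 (hμ χ)
        (fun z g => by rw [hμ, congrFun e z]) hdeg).symm
    rw [classInner, mul_eq_zero, inv_eq_zero, or_iff_right natCard_ne_zero] at h2
    simp only [hμ, mul_assoc, mul_left_comm (μ ψ _ : ℂ), ← Finset.mul_sum, h2, mul_zero])
    (by simp [mem_blockOf_self])] at h1
  simp only [hμ, mul_assoc, mul_left_comm (μ χ _ : ℂ), unitsHom_mul_conj] at h1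
  simpa [χ.2.apply_one_ne_zero] using h1

omit hMm [CharP (Res M) p] in
theorem sum_pPart_mem {A : Type*} [AddCommMonoid A] [Fintype G] {P : Subgroup G} [Fintype P]
    (hP : IsPGroup p P) (hc : ∀ x : G, ¬p ∣ orderOf x → P ≤ cz x) [DecidablePred (· ∈ P)]
    (F : G → A) : ∑ g with pPart p g ∈ P, F g = ∑ u : P, ∑ y with ¬p ∣ orderOf y, F (u * y) := by
  rw [← Finset.sum_product']
  refine (Finset.sum_bij (fun x _ => (x.1 : G) * x.2) ?_ ?_ ?_ fun _ _ => rfl).symm
  · rintro ⟨u, y⟩ h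
    have hy := (Finset.mem_filter.mp (Finset.mem_product.mp h).2).2
    simp only [Finset.mem_filter, Finset.mem_univ, true_and]
    rw [pPart_mul_of (mem_cz.mp (hc y hy u.2)) (isPElt_of_mem hP u.2) hy]
    exact u.2
  · rintro ⟨u, y⟩ h ⟨u', y'⟩ h' e
    have hy := (Finset.mem_filter.mp (Finset.mem_product.mp h).2).2
    have hy' := (Finset.mem_filter.mp (Finset.mem_product.mp h').2).2
    have h1 := pPart_mul_of (mem_cz.mp (hc y hy u.2)) (isPElt_of_mem hP u.2) hy
    have h2 := pPart_mul_of (mem_cz.mp (hc y' hy' u'.2)) (isPElt_of_mem hP u'.2) hy'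
    simp only at e
    rw [e, h2] at h1
    obtain rfl : u' = u := Subtype.ext h1
    rw [mul_left_cancel e]
  · intro g hg
    exact ⟨(⟨_, (Finset.mem_filter.mp hg).2⟩, pReg p g), by simpa using pReg_pReg g,
      pPart_mul_pReg g⟩

theorem isDefectGroup_of_central {D : Subgroup G} (hD : IsPGroup p D)
    (hDZ : D ≤ Subgroup.center G) {χ : IrrCharacter G}
    (hdeg : nu p (χ : G → ℂ) = D.index.factorization p) :
    IsDefectGroup p M (blockOf M (χ : G → ℂ)) D := by
  classical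
  have := Fintype.ofFinite G
  have := Fintype.ofFinite D
  have : D.Normal := ⟨fun x hx g => by
    rwa [Subgroup.mem_center_iff.mp (hDZ hx) g, mul_inv_cancel_right]⟩
  have hB := isPBlock_blockOf (M := M) χ
  obtain ⟨μ, hμ⟩ := exists_centralHom χ.2 hDZ
  have h1 : Nat.card D * classInner (regP p (χ : G → ℂ)) χ = 1 := by
    rw [← χ.2.classInner_self, classInner, classInner, mul_left_comm,
      ← Finset.sum_filter_of_ne (p := fun g => pPart p g ∈ D)
        (f := fun g => (χ : G → ℂ) g * conj ((χ : G → ℂ) g)) (fun g _ h => by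
          by_contra hg
          exact h (by simp only [apply_eq_zero_of_central hD hDZ hdeg M hg, zero_mul])),
      sum_pPart_mem hD fun x _ z hz => mem_cz.mpr (Subgroup.mem_center_iff.mp (hDZ hz) x).symm]
    simp only [mul_conj_mul_of_mem_center χ.2 (hDZ (Subtype.prop _)), Finset.sum_const,
      Finset.card_univ, nsmul_eq_mul, Nat.card_eq_fintype_card, regP, ite_mul, zero_mul,
      Finset.sum_filter, ite_not]
  have h2 := ((IsPBlock.lam_tR_ne_zero_iff (p := p) hB (mem_blockOf_self χ) χ).mp (by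
    rw [lam_redA_tR _ χ.2.isCharacter, om_apply, ev_tR _ χ.2.isCharacter, ← D.index_mul_card,
      Nat.cast_mul, mul_assoc, h1, mul_one, ← χ.2.cast_charDegree]
    exact (red_natCast_div_ne_zero_iff Subgroup.index_ne_zero_of_finite
      (charDegree_ne_zero χ)).mpr hdeg.symm)).2
  obtain ⟨P, hP⟩ := IsPBlock.exists_defectGroup p hB
  have h3 := IsDefectGroup.normal_le hB hP hD
  have h4 := factorization_index_defectGroup hB hP
  rw [← (blockHeight_eq_zero_iff (mem_blockOf_self χ)).mp h2, hdeg] at h4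
  have h5 := factorization_card_eq p P
  have h6 := factorization_card_eq p D
  obtain ⟨a, ha⟩ := IsPGroup.iff_card.mp (IsDefectGroup.isPGroup hP)
  obtain ⟨b, hb⟩ := IsPGroup.iff_card.mp hD
  rw [ha, Nat.Prime.factorization_pow hp.out, Finsupp.single_eq_same] at h5
  rw [hb, Nat.Prime.factorization_pow hp.out, Finsupp.single_eq_same] at h6
  rwa [Subgroup.eq_of_le_of_card_ge h3 (by rw [ha, hb, show a = b by omega])]

end Cfsg.Agent.H3
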