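import Cfsg.Agent.H3.Height0
import Cfsg.Agent.H1.Coprime
import Cfsg.Agent.H1.Frattini

/-!
# Domination of blocks modulo the derived subgroup of a normal `p`-subgroup
-/

set_option autoImplicit false
set_option linter.unusedSectionVars false

namespace Cfsg.Agent.H3

open Cfsg Cfsg.Agent.H5 Cfsg.Agent.H4
open scoped ComplexConjugate

variable {M : Ideal AlgInt} [hMm : M.IsMaximal] {G H : Type*} [Group G] [Finite G] [Group H]
  [Finite H] {p : ℕ} [hp : Fact p.Prime] [CharP (Res M) p]

omit hMm in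
theorem mem_centralizer_of_map {D : Subgroup G} [D.Normal] (hD : IsPGroup p D) (f : G →* H)
    (hk : f.ker ≤ ⁅D, D⁆) {x : G} (hx : ¬p ∣ orderOf x)
    (h : f x ∈ Subgroup.centralizer (D.map f : Set H)) : x ∈ Subgroup.centralizer (D : Set G) := by
  have hDD : IsPGroup p (⁅D, D⁆ : Subgroup G) := hD.to_le (Subgroup.commutator_le_left D D)
  obtain ⟨k, hk'⟩ := IsPGroup.iff_card.mp hDD
  have h1 : (Subgroup.centralizer (Subgroup.zpowers x : Set G)).subgroupOf D = ⊤ := by
    refine H1.eq_top_of_sup_le_frattini (H1.commutator_le_frattini_of_isPGroup hD)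
      (eq_top_iff.mpr fun d _ => ?_)
    obtain ⟨n, hn, c, hc, e⟩ := H1.exists_centralizer_mul (A := Subgroup.zpowers x) (N := ⁅D, D⁆)
      (Subgroup.le_normalizer_of_normal) (by
        rw [Nat.card_zpowers, hk']
        exact Nat.Coprime.pow_right _ ((Nat.Prime.coprime_iff_not_dvd hp.out).mpr hx).symm)
      (Or.inl inferInstance) (k := d) (fun a ha => hk (by
        have h2 : f a ∈ Subgroup.centralizer (D.map f : Set H) :=
          (Subgroup.zpowers_le (H := (Subgroup.centralizer (D.map f : Set H)).comap f)).mpr h ha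
        rw [MonoidHom.mem_ker, map_commutatorElement, commutatorElement_eq_one_iff_mul_comm]
        exact h2 _ ⟨d, d.2, rfl⟩))
    have hnD : n ∈ D := Subgroup.commutator_le_left D D hn
    have hcD : c ∈ D := by
      have := mul_mem (inv_mem hnD) d.2
      rwa [e, inv_mul_cancel_left] at this
    rw [show d = ⟨n, hnD⟩ * ⟨c, hcD⟩ from Subtype.ext e]
    refine mul_mem (Subgroup.mem_sup_right ?_) (Subgroup.mem_sup_left hc)
    rw [← Subgroup.map_subtype_commutator] at hn
    obtain ⟨m, hm, rfl⟩ := hn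
    exact hm
  intro d hd
  exact ((h1.ge (Subgroup.mem_top ⟨d, hd⟩) :) x (Subgroup.mem_zpowers x)).symm

theorem sameBlock_of_inflIrr_of_commutator {D : Subgroup G} [D.Normal] (hD : IsPGroup p D)
    (f : G →* H) (hf : Function.Surjective f) (hk : f.ker ≤ ⁅D, D⁆) {χ ψ : IrrCharacter H}
    (h : SameBlock M (inflIrr f hf χ : G → ℂ) (inflIrr f hf ψ)) : SameBlock M (χ : H → ℂ) ψ := by
  have hkD : f.ker ≤ D := hk.trans (Subgroup.commutator_le_left D D)
  have : (D.map f).Normal := Subgroup.Normal.map inferInstance f hf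
  have hU := IsPBlock.isUnion (isPBlock_blockOf (M := M) χ)
  apply hU.mem_of_lam_eB
  rw [← linearMap_eq_of_classSum (φ := lam M (χ : H → ℂ)) (eB_mem_Zc _) fun y hy => ?_,
    hU.lam_eB_of_mem (mem_blockOf_self χ)]
  · exact one_ne_zero
  obtain ⟨x, hx, rfl⟩ := exists_pReg_lift f hf (hU.pReg_of_coeff_eB (p := p) hy)
  have hc : f.ker ≤ cz x := hkD.trans (le_cz_iff.mpr (mem_centralizer_of_map hD f hk hx
    (hU.mem_centralizer_of_coeff_eB (hD.map f) hy)))
  rw [lam_classSum χ.2.isClassFunction, lam_classSum ψ.2.isClassFunction,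
    ← centralChar_inflIrr_of_pReg f hf (hD.to_le hkD) _ hx hc,
    ← centralChar_inflIrr_of_pReg f hf (hD.to_le hkD) _ hx hc]
  exact (sameBlock_iff_red (inflIrr f hf χ).2 (inflIrr f hf ψ).2).mp h x

theorem exists_inflIrr_mem (f : G →* H) (hf : Function.Surjective f) (hk : IsPGroup p f.ker)
    {B : Set (IrrCharacter G)} (hB : IsPBlock M B) : ∃ χ, inflIrr f hf χ ∈ B := by
  by_contra hcon
  push Not at hcon
  obtain ⟨g, hg⟩ := IsPBlock.exists_defectClass hB
  have hx := IsDefectClass.pReg (p := p) hB hg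
  have h1 := blockCoeff_preimage_inflIrr f hf hk (IsPBlock.isUnion hB) hx (le_cz_iff.mpr
    ((IsPBlock.isUnion hB).mem_centralizer_of_coeff_eB hk (IsDefectClass.coeff_ne_zero hg)))
  rw [show inflIrr f hf ⁻¹' B = ∅ from Set.eq_empty_of_forall_notMem hcon, ← coeff_fA,
    fA_empty] at h1
  exact hg.2.1 (h1 ▸ memLocalIdeal_zero)

end Cfsg.Agent.H3
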