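import Cfsg.Agent.H3.GenDec
import Cfsg.Agent.H3.Q8Comb
import Cfsg.Agent.H5.More

/-!
# Characters of height zero, and blocks with normal defect groups
-/

set_option autoImplicit false
set_option linter.unusedSectionVars false

namespace Cfsg.Agent.H3

open Cfsg Cfsg.Agent.H5 Cfsg.Agent.H4
open scoped ComplexConjugate

variable {M : Ideal AlgInt} [hMm : M.IsMaximal] {G : Type*} [Group G] [Finite G]
  {p : ℕ} [hp : Fact p.Prime] [CharP (Res M) p]

theorem exists_constituent_not_dvd [Fintype G] {χ : G → ℂ} (hχ : IsCharacter G χ) {y : G}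
    (hy : y ∈ Subgroup.center G) (h : red M (χ y) ≠ 0) :
    ∃ ψ : IrrCharacter G, classInner χ ψ ≠ 0 ∧ ¬p ∣ charDegree (ψ : G → ℂ) := by
  by_contra hcon
  push Not at hcon
  obtain ⟨n, hn, e⟩ := hχ.exists_eq_sum_nat
  apply h
  rw [e, Finset.sum_apply]
  simp only [Pi.smul_apply, smul_eq_mul]
  rw [red_sum _ fun ψ _ => mul_mem (natCast_mem _ _) (irr_mem ψ y)]
  refine Finset.sum_eq_zero fun ψ _ => ?_
  by_cases h0 : n ψ = 0
  · simp [h0]
  obtain ⟨ω, h1, h2⟩ := apply_mul_of_mem_center ψ.2 hy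
  have h3 := h2 1
  rw [mul_one] at h3
  have hω : ω ∈ locRing M := mem_locRing_of_isIntegral M
    (IsIntegral.of_pow (orderOf_pos y) (h1 ▸ isIntegral_one))
  rw [h3, red_mul (natCast_mem _ _) (mul_mem hω (irr_mem ψ 1)), red_mul hω (irr_mem ψ 1),
    ← ψ.2.cast_charDegree, (red_natCast_eq_zero_iff _).mpr
      (hcon ψ (by rw [hn]; exact_mod_cast h0)), mul_zero, mul_zero]

theorem exists_linear_constituent {χ : G → ℂ} (hχ : IsCharacter G χ) {D : Subgroup G}
    [Fintype D] (hD : IsPGroup p D) {y : G} (hy : D ≤ cz y) (h : red M (χ y) ≠ 0) :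
    ∃ μ : D →* ℂˣ, classInner (fun x : D => χ x) (fun x => (μ x : ℂ)) ≠ 0 := by
  have := Fintype.ofFinite (cz y)
  obtain ⟨ψ, h1, h2⟩ := exists_constituent_not_dvd (M := M) (p := p) (hχ.restrict (cz y))
    (self_mem_center_cz y) h
  obtain ⟨μ, h3, h4⟩ := exists_constituent_not_dvd (M := M) (p := p)
    (ψ.2.isCharacter.comp (Subgroup.inclusion hy)) (one_mem _) (by
      rw [map_one, ← ψ.2.cast_charDegree]; exact red_natCast_ne_zero h2)
  obtain ⟨k, hk⟩ := IsPGroup.iff_card.mp hD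
  obtain ⟨j, -, hj⟩ := (Nat.dvd_prime_pow hp.out).mp (hk ▸ μ.2.charDegree_dvd_card)
  obtain rfl : j = 0 := by
    by_contra h0
    exact h4 (hj ▸ dvd_pow_self p h0)
  obtain ⟨lam, e⟩ := μ.2.isCharacter.exists_unitsHom (by rw [← μ.2.cast_charDegree, hj]; simp)
  exact ⟨lam, e ▸ classInner_comp_ne_zero_of_constituent (Subgroup.inclusion hy)
    (hχ.restrict (cz y)) ψ.2 h1 μ.2.isCharacter h3⟩

theorem exists_linear_constituent_of_height_zero {B : Set (IrrCharacter G)} (hB : IsPBlock M B)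
    {D : Subgroup G} [Fintype D] (hD : IsDefectGroup p M B D) {χ : IrrCharacter G} (hχ : χ ∈ B)
    (h0 : blockHeight p B (χ : G → ℂ) = 0) :
    ∃ μ : D →* ℂˣ, classInner (fun x : D => (χ : G → ℂ) x) (fun x => (μ x : ℂ)) ≠ 0 := by
  obtain ⟨y, hy, hs⟩ := isDefectGroup_iff.mp hD
  exact exists_linear_constituent χ.2.isCharacter (IsDefectGroup.isPGroup hD) hs.le
    ((IsDefectClass.red_ne_zero_iff hB hy hχ).mpr h0)

omit hMm in
theorem eq_of_classInner_ne_zero_of_mul {f : G → ℂ} [Fintype G] (μ : G →* ℂˣ)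
    (h : classInner f (fun x => (μ x : ℂ)) ≠ 0) {z : G} {c : ℂ} (hz : ∀ x, f (z * x) = c * f x) :
    (μ z : ℂ) = c := by
  have h1 : classInner f (fun x => (μ x : ℂ)) = c * conj (μ z : ℂ) *
      classInner f (fun x => (μ x : ℂ)) := by
    conv_lhs => rw [classInner, ← Equiv.sum_comp (Equiv.mulLeft z)]
    simp only [classInner, Finset.mul_sum, Equiv.coe_mulLeft, hz, map_mul, Units.val_mul]
    exact Finset.sum_congr rfl fun x _ => by ring
  have h2 : c * conj (μ z : ℂ) = 1 := mul_right_cancel₀ h (by rw [← h1, one_mul])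
  have h3 := (isIrrCharacter_unitsHom μ).apply_inv z
  simp only [map_inv, Units.val_inv_eq_inv_val] at h3
  rw [← h3, mul_inv_eq_one₀ (μ z).ne_zero] at h2
  exact h2.symm

theorem commute_of_height_zero {B : Set (IrrCharacter G)} (hB : IsPBlock M B) {P : Subgroup G}
    [hn : P.Normal] (hP : IsDefectGroup p M B P)
    (h : ∀ χ ∈ B, blockHeight p B (χ : G → ℂ) = 0) : ∀ a ∈ P, ∀ c ∈ P, a * c = c * a := by
  have := Fintype.ofFinite G
  have := Fintype.ofFinite P
  intro a ha c hc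
  have hw : a * c * a⁻¹ * c⁻¹ ∈ P := mul_mem (mul_mem (mul_mem ha hc) (inv_mem ha)) (inv_mem hc)
  have h1 : a * c * a⁻¹ * c⁻¹ ∈ blockKerSub B := mem_blockKerSub.mpr fun χ hχ => by
    obtain ⟨μ, hμ⟩ := exists_linear_constituent_of_height_zero hB hP hχ (h χ hχ)
    have h2 := clifford_res P χ.2 (isIrrCharacter_unitsHom μ) hμ
    have h3 := congrFun h2 ⟨_, hw⟩
    have h4 := congrFun h2 1
    simp only [Pi.smul_apply, Finset.sum_apply, OneMemClass.coe_one] at h3 h4
    rw [h3, h4]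
    congr 1
    refine Finset.sum_congr rfl fun ψ hψ => ?_
    obtain ⟨g, hg⟩ := (mem_conjIrr P _ ψ).mp hψ
    obtain ⟨lam, e⟩ := ψ.2.isCharacter.exists_unitsHom (by rw [← hg, conjFun_apply_one]; simp)
    rw [e, show (⟨_, hw⟩ : P) = ⟨a, ha⟩ * ⟨c, hc⟩ * (⟨a, ha⟩ : P)⁻¹ * (⟨c, hc⟩ : P)⁻¹ from rfl]
    simp only [map_mul, map_inv, mul_inv_cancel_comm, mul_inv_cancel, map_one]
  have h2 := eq_one_of_pElt_of_pReg (isPElt_of_mem (IsDefectGroup.isPGroup hP) hw) (not_dvd_orderOf_of_mem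
    (not_dvd_card_blockKerSub (IsPBlock.isUnion hB) (IsPBlock.nonempty hB)) h1)
  rwa [mul_inv_eq_one, mul_inv_eq_iff_eq_mul] at h2

theorem factorization_index_defectGroup {B : Set (IrrCharacter G)} (hB : IsPBlock M B)
    {P : Subgroup G} (hP : IsDefectGroup p M B P) : P.index.factorization p = minNu p B := by
  have h1 := factorization_card_eq p P
  rw [IsDefectGroup.card_eq hB hP, ← IsPBlock.minNu_add_blockDefect (p := p) hB,
    Nat.Prime.factorization_pow hp.out, Finsupp.single_eq_same] at h1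
  omega

end Cfsg.Agent.H3
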